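import Mathlib

/-!
# Adjoining a `p`-th root to a discrete valuation ring (unramified, purely inseparable residue step)

For a local ring `A` and a monic `f : A[X]` whose reduction is irreducible, `AdjoinRoot f` is a local
ring with maximal ideal generated by that of `A`.  When `A` is a DVR with uniformizer `ϖ`, every
nonzero element of `AdjoinRoot f` is a power of `ϖ` times a unit.
-/

namespace Groth.Agent.Lib.Helper6.HensPerf

open Polynomial IsLocalRing

universe u

theorem irreducible_map_of_not_pow {A : Type u} [CommRing A] [IsLocalRing A] {p : ℕ}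
    (hp : p.Prime) (y : A) (hy : ∀ w : A, w ^ p - y ∉ maximalIdeal A) :
    Irreducible ((X ^ p - C y : A[X]).map (Ideal.Quotient.mk (maximalIdeal A))) := by
  letI : Field (A ⧸ maximalIdeal A) := Ideal.Quotient.field _
  have h1 : (X ^ p - C y : A[X]).map (Ideal.Quotient.mk (maximalIdeal A)) =
      X ^ p - C (Ideal.Quotient.mk (maximalIdeal A) y) := by
    rw [Polynomial.map_sub, Polynomial.map_pow, Polynomial.map_X, Polynomial.map_C]
  rw [h1]
  apply X_pow_sub_C_irreducible_of_prime hp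
  intro b hb
  obtain ⟨w, rfl⟩ := Ideal.Quotient.mk_surjective b
  apply hy w
  rw [← Ideal.Quotient.eq_zero_iff_mem, map_sub, map_pow, hb, sub_self]

theorem map_of_isMaximal {A : Type u} [CommRing A] [IsLocalRing A] (f : A[X])
    (hirr : Irreducible (f.map (Ideal.Quotient.mk (maximalIdeal A)))) :
    ((maximalIdeal A).map (AdjoinRoot.of f)).IsMaximal := by
  letI : Field (A ⧸ maximalIdeal A) := Ideal.Quotient.field _
  have hmax : (Ideal.span {f.map (Ideal.Quotient.mk (maximalIdeal A))}).IsMaximal :=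
    PrincipalIdealRing.isMaximal_of_irreducible hirr
  have hfield := (Ideal.Quotient.maximal_ideal_iff_isField_quotient _).mp hmax
  have e := AdjoinRoot.quotEquivQuotMap f (maximalIdeal A)
  exact Ideal.Quotient.maximal_of_isField _ (MulEquiv.isField hfield e.toMulEquiv)

theorem isLocalRing_adjoinRoot {A : Type u} [CommRing A] [IsLocalRing A] (f : A[X]) (hf : f.Monic)
    (hirr : Irreducible (f.map (Ideal.Quotient.mk (maximalIdeal A)))) :
    IsLocalRing (AdjoinRoot f) := by
  have hM := map_of_isMaximal f hirr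
  haveI : Module.Finite A (AdjoinRoot f) := hf.finite_adjoinRoot
  haveI : Algebra.IsIntegral A (AdjoinRoot f) := Algebra.IsIntegral.of_finite A _
  apply IsLocalRing.of_unique_max_ideal
  refine ⟨_, hM, fun N hN => ?_⟩
  have h1 : (N.comap (algebraMap A (AdjoinRoot f))).IsMaximal :=
    Ideal.isMaximal_comap_of_isIntegral_of_isMaximal N
  have h2 := IsLocalRing.eq_maximalIdeal h1
  have h3 : (maximalIdeal A).map (AdjoinRoot.of f) ≤ N := by
    rw [Ideal.map_le_iff_le_comap, ← AdjoinRoot.algebraMap_eq]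
    exact h2.ge
  exact (hM.eq_of_le hN.ne_top h3).symm

theorem maximalIdeal_adjoinRoot {A : Type u} [CommRing A] [IsLocalRing A] (f : A[X])
    (hirr : Irreducible (f.map (Ideal.Quotient.mk (maximalIdeal A))))
    [IsLocalRing (AdjoinRoot f)] :
    maximalIdeal (AdjoinRoot f) = (maximalIdeal A).map (AdjoinRoot.of f) :=
  (IsLocalRing.eq_maximalIdeal (map_of_isMaximal f hirr)).symm

theorem exists_eq_pow_mul_unit {A : Type u} [CommRing A] [IsDomain A] [IsDiscreteValuationRing A]
    (f : A[X]) (hf : f.Monic)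
    (hirr : Irreducible (f.map (Ideal.Quotient.mk (maximalIdeal A))))
    {ϖ : A} (hϖ : Irreducible ϖ) (b : AdjoinRoot f) (hb : b ≠ 0) :
    ∃ (n : ℕ) (u : (AdjoinRoot f)ˣ), b = AdjoinRoot.of f ϖ ^ n * u := by
  haveI : IsLocalRing (AdjoinRoot f) := isLocalRing_adjoinRoot f hf hirr
  haveI : Module.Finite A (AdjoinRoot f) := hf.finite_adjoinRoot
  haveI : IsNoetherianRing (AdjoinRoot f) := IsNoetherianRing.of_finite A (AdjoinRoot f)
  have hmax : maximalIdeal (AdjoinRoot f) = Ideal.span {AdjoinRoot.of f ϖ} := by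
    rw [maximalIdeal_adjoinRoot f hirr, hϖ.maximalIdeal_eq, Ideal.map_span, Set.image_singleton]
  have hK := Ideal.iInf_pow_eq_bot_of_isLocalRing (maximalIdeal (AdjoinRoot f))
    (Ideal.IsMaximal.ne_top inferInstance)
  have hex : ∃ n, b ∉ maximalIdeal (AdjoinRoot f) ^ n := by
    by_contra hcon
    push Not at hcon
    have h1 : b ∈ (⨅ i : ℕ, maximalIdeal (AdjoinRoot f) ^ i) := by
      rw [Ideal.mem_iInf]
      exact hcon
    rw [hK] at h1
    exact hb (by simpa using h1)
  classical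
  obtain ⟨n, hn⟩ : ∃ n, n = Nat.find hex := ⟨_, rfl⟩
  have hn1 : b ∉ maximalIdeal (AdjoinRoot f) ^ n := by
    rw [hn]
    exact Nat.find_spec hex
  have hn0 : n ≠ 0 := by
    intro h0
    rw [h0, pow_zero, Ideal.one_eq_top] at hn1
    exact hn1 Submodule.mem_top
  obtain ⟨k, hk⟩ := Nat.exists_eq_succ_of_ne_zero hn0
  have hk1 : b ∈ maximalIdeal (AdjoinRoot f) ^ k := by
    by_contra hcon
    have h2 := Nat.find_min' hex hcon
    omega
  rw [hmax, Ideal.span_singleton_pow, Ideal.mem_span_singleton'] at hk1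
  obtain ⟨u, hu⟩ := hk1
  have hunit : IsUnit u := by
    by_contra hnu
    have hmem : u ∈ maximalIdeal (AdjoinRoot f) := (IsLocalRing.mem_maximalIdeal u).mpr hnu
    apply hn1
    rw [hk, Nat.succ_eq_add_one, pow_succ, ← hu, mul_comm u]
    refine Ideal.mul_mem_mul ?_ hmem
    rw [hmax, Ideal.span_singleton_pow]
    exact Ideal.mem_span_singleton_self _
  refine ⟨k, hunit.unit, ?_⟩
  rw [IsUnit.unit_spec, ← hu, mul_comm]

theorem exists_pow_eq_of_add {A : Type u} [CommRing A] {p : ℕ} (hp : p.Prime) (y : A)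
    (f : A[X]) (hf : f = X ^ p - C y) (b : AdjoinRoot f) :
    ∃ (a : A) (r : AdjoinRoot f), b ^ p = AdjoinRoot.of f a + (p : AdjoinRoot f) * r := by
  have hroot : AdjoinRoot.root f ^ p = AdjoinRoot.of f y := by
    have h : AdjoinRoot.mk f (X ^ p - C y) = 0 := by
      rw [← hf]
      exact AdjoinRoot.mk_self
    rw [map_sub, map_pow, AdjoinRoot.mk_X, AdjoinRoot.mk_C, sub_eq_zero] at h
    exact h
  have hadd : ∀ b b' : AdjoinRoot f,
      (∃ (a : A) (r : AdjoinRoot f), b ^ p = AdjoinRoot.of f a + (p : AdjoinRoot f) * r) →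
      (∃ (a : A) (r : AdjoinRoot f), b' ^ p = AdjoinRoot.of f a + (p : AdjoinRoot f) * r) →
      ∃ (a : A) (r : AdjoinRoot f), (b + b') ^ p = AdjoinRoot.of f a + (p : AdjoinRoot f) * r := by
    rintro b b' ⟨a, r, h1⟩ ⟨a', r', h2⟩
    obtain ⟨r'', h3⟩ := exists_add_pow_prime_eq hp b b'
    refine ⟨a + a', r + r' + b * b' * r'', ?_⟩
    rw [h3, h1, h2, map_add]
    ring
  have hmul : ∀ b b' : AdjoinRoot f,
      (∃ (a : A) (r : AdjoinRoot f), b ^ p = AdjoinRoot.of f a + (p : AdjoinRoot f) * r) →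
      (∃ (a : A) (r : AdjoinRoot f), b' ^ p = AdjoinRoot.of f a + (p : AdjoinRoot f) * r) →
      ∃ (a : A) (r : AdjoinRoot f), (b * b') ^ p = AdjoinRoot.of f a + (p : AdjoinRoot f) * r := by
    rintro b b' ⟨a, r, h1⟩ ⟨a', r', h2⟩
    refine ⟨a * a', AdjoinRoot.of f a * r' + r * AdjoinRoot.of f a' + (p : AdjoinRoot f) * r * r', ?_⟩
    rw [mul_pow, h1, h2, map_mul]
    ring
  induction b using AdjoinRoot.induction_on with
  | ih g =>
    refine Polynomial.induction_on g ?_ ?_ ?_
    · intro a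
      exact ⟨a ^ p, 0, by rw [AdjoinRoot.mk_C, map_pow, mul_zero, add_zero]⟩
    · intro g g' hg hg'
      rw [map_add]
      exact hadd _ _ hg hg'
    · intro n a h
      rw [pow_succ, ← mul_assoc, map_mul, AdjoinRoot.mk_X]
      exact hmul _ _ h ⟨y, 0, by rw [hroot, mul_zero, add_zero]⟩

end Groth.Agent.Lib.Helper6.HensPerf
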