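import Mathlib
import Groth.Agent.Lib.Helper6.HensPerf.HP1

/-!
# Good subalgebras of an algebraically closed overfield of a DVR

`Good p ϖ T` : `T` is a directed union of finite free `R`-subalgebras of `p`-power rank, every
nonzero element of `T` is `ϖ ^ n` times a unit of `T`, `ϖ` is not a unit of `T`, and the residue
ring `T / ϖ T` is purely inseparable over that of `R`.  Zorn's lemma gives a maximal one, whose
residue field is perfect.
-/

set_option linter.style.haveILetI false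

namespace Groth.Agent.Lib.Helper6.HensPerf

open Polynomial IsLocalRing

universe u

variable {R : Type u} [CommRing R] [IsDomain R] [IsDiscreteValuationRing R]
  {Ω : Type u} [Field Ω] [Algebra R Ω]

structure Good (p : ℕ) (ϖ : R) (T : Subalgebra R Ω) : Prop where
  fin : ∀ s : Finset Ω, (↑s : Set Ω) ⊆ (T : Set Ω) → ∃ S : Subalgebra R Ω, S ≤ T ∧
      (↑s : Set Ω) ⊆ (S : Set Ω) ∧ Module.Finite R S ∧ Module.Free R S ∧
      ∃ m : ℕ, Module.finrank R S = p ^ m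
  val : ∀ x ∈ T, x ≠ 0 → ∃ (n : ℕ) (u v : Ω), u ∈ T ∧ v ∈ T ∧ u * v = 1 ∧
      x = algebraMap R Ω ϖ ^ n * u
  res : ∀ y ∈ T, ∃ (m : ℕ) (z : R) (t : Ω), t ∈ T ∧
      algebraMap R Ω z - y ^ (p ^ m) = algebraMap R Ω ϖ * t
  nonunit : ∀ v ∈ T, algebraMap R Ω ϖ * v ≠ 1

theorem good_bot (p : ℕ) {ϖ : R} (hϖ : Irreducible ϖ)
    (hinj : Function.Injective (algebraMap R Ω)) :
    Good p ϖ (⊥ : Subalgebra R Ω) where
  fin := fun s hs => by
    refine ⟨⊥, le_rfl, hs, ?_, ?_, 0, ?_⟩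
    · exact Module.Finite.equiv (Algebra.botEquivOfInjective hinj).symm.toLinearEquiv
    · exact Module.Free.of_equiv (Algebra.botEquivOfInjective hinj).symm.toLinearEquiv
    · rw [pow_zero, (Algebra.botEquivOfInjective hinj).toLinearEquiv.finrank_eq,
        Module.finrank_self]
  val := fun x hx hx0 => by
    obtain ⟨r, rfl⟩ := Algebra.mem_bot.mp hx
    have hr : r ≠ 0 := fun h => hx0 (by rw [h, map_zero])
    obtain ⟨n, u, hu⟩ := IsDiscreteValuationRing.eq_unit_mul_pow_irreducible hr hϖ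
    refine ⟨n, algebraMap R Ω u, algebraMap R Ω (↑u⁻¹ : R), Subalgebra.algebraMap_mem _ _,
      Subalgebra.algebraMap_mem _ _, ?_, ?_⟩
    · rw [← map_mul, Units.mul_inv, map_one]
    · rw [hu, map_mul, map_pow, mul_comm]
  res := fun y hy => by
    obtain ⟨r, rfl⟩ := Algebra.mem_bot.mp hy
    exact ⟨0, r, 0, zero_mem _, by simp⟩
  nonunit := fun v hv h => by
    obtain ⟨r, rfl⟩ := Algebra.mem_bot.mp hv
    rw [← map_mul, ← map_one (algebraMap R Ω)] at h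
    exact hϖ.not_isUnit (IsUnit.of_mul_eq_one _ (hinj h))

theorem mem_sSup_chain {c : Set (Subalgebra R Ω)} (hchain : IsChain (· ≤ ·) c)
    (hne : c.Nonempty) {x : Ω} : x ∈ sSup c ↔ ∃ T ∈ c, x ∈ T := by
  haveI : Nonempty c := hne.to_subtype
  have hdir : Directed (· ≤ ·) (fun T : c => (T : Subalgebra R Ω)) :=
    hchain.directedOn.directed_val
  rw [sSup_eq_iSup', ← SetLike.mem_coe, Subalgebra.coe_iSup_of_directed hdir, Set.mem_iUnion]
  constructor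
  · rintro ⟨T, hT⟩
    exact ⟨T.1, T.2, hT⟩
  · rintro ⟨T, hT, hx⟩
    exact ⟨⟨T, hT⟩, hx⟩

theorem exists_mem_chain_of_finset {c : Set (Subalgebra R Ω)} (hchain : IsChain (· ≤ ·) c)
    {T₀ : Subalgebra R Ω} (hT₀ : T₀ ∈ c) (s : Finset Ω)
    (hs : (↑s : Set Ω) ⊆ ((sSup c : Subalgebra R Ω) : Set Ω)) :
    ∃ T ∈ c, (↑s : Set Ω) ⊆ (T : Set Ω) := by
  classical
  induction s using Finset.induction_on with
  | empty => exact ⟨T₀, hT₀, by simp⟩
  | insert a s ha ih =>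
    rw [Finset.coe_insert, Set.insert_subset_iff] at hs
    obtain ⟨T₁, hT₁, h1⟩ := ih hs.2
    obtain ⟨T₂, hT₂, h2⟩ := (mem_sSup_chain hchain ⟨T₀, hT₀⟩).mp hs.1
    rcases hchain.total hT₁ hT₂ with h | h
    · refine ⟨T₂, hT₂, ?_⟩
      rw [Finset.coe_insert, Set.insert_subset_iff]
      exact ⟨h2, fun x hx => h (h1 hx)⟩
    · refine ⟨T₁, hT₁, ?_⟩
      rw [Finset.coe_insert, Set.insert_subset_iff]
      exact ⟨h h2, h1⟩

theorem good_sSup {p : ℕ} {ϖ : R} {c : Set (Subalgebra R Ω)} (hc : ∀ T ∈ c, Good p ϖ T)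
    (hchain : IsChain (· ≤ ·) c) {T₀ : Subalgebra R Ω} (hT₀ : T₀ ∈ c) :
    Good p ϖ (sSup c) where
  fin := fun s hs => by
    obtain ⟨T, hT, hsT⟩ := exists_mem_chain_of_finset hchain hT₀ s hs
    obtain ⟨S, hST, h1, h2, h3, h4⟩ := (hc T hT).fin s hsT
    exact ⟨S, hST.trans (le_sSup hT), h1, h2, h3, h4⟩
  val := fun x hx hx0 => by
    obtain ⟨T, hT, hxT⟩ := (mem_sSup_chain hchain ⟨T₀, hT₀⟩).mp hx
    obtain ⟨n, u, v, hu, hv, huv, h⟩ := (hc T hT).val x hxT hx0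
    exact ⟨n, u, v, le_sSup hT hu, le_sSup hT hv, huv, h⟩
  res := fun y hy => by
    obtain ⟨T, hT, hyT⟩ := (mem_sSup_chain hchain ⟨T₀, hT₀⟩).mp hy
    obtain ⟨m, z, t, ht, h⟩ := (hc T hT).res y hyT
    exact ⟨m, z, t, le_sSup hT ht, h⟩
  nonunit := fun v hv => by
    obtain ⟨T, hT, hvT⟩ := (mem_sSup_chain hchain ⟨T₀, hT₀⟩).mp hv
    exact (hc T hT).nonunit v hvT

theorem exists_unit_of_good {p : ℕ} {ϖ : R} {T : Subalgebra R Ω} (hT : Good p ϖ T) (x : T)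
    (hx : x ≠ 0) : ∃ (n : ℕ) (u : (↥T)ˣ), x = algebraMap R T ϖ ^ n * u := by
  obtain ⟨n, u, v, hu, hv, huv, h⟩ := hT.val x.1 x.2 (fun h => hx (Subtype.ext h))
  refine ⟨n, ⟨⟨u, hu⟩, ⟨v, hv⟩, Subtype.ext huv,
    Subtype.ext (by rw [mul_comm] at huv; exact huv)⟩, Subtype.ext ?_⟩
  rw [Subalgebra.coe_mul, Subalgebra.coe_pow, Subalgebra.coe_algebraMap]
  exact h

theorem irreducible_of_good {p : ℕ} {ϖ : R} (hϖ0 : ϖ ≠ 0)
    (hinj : Function.Injective (algebraMap R Ω)) {T : Subalgebra R Ω} (hT : Good p ϖ T) :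
    Irreducible (algebraMap R T ϖ) := by
  have hne : algebraMap R T ϖ ≠ 0 := by
    intro h
    apply hϖ0
    apply hinj
    have h1 := congrArg Subtype.val h
    rw [Subalgebra.coe_algebraMap] at h1
    rw [h1, map_zero]
    rfl
  have hnu : ¬ IsUnit (algebraMap R T ϖ) := by
    rintro ⟨u, hu⟩
    apply hT.nonunit (↑u⁻¹ : T).1 (↑u⁻¹ : T).2
    have h1 : algebraMap R T ϖ * ↑u⁻¹ = 1 := by
      rw [← hu]
      exact u.mul_inv
    have h2 := congrArg Subtype.val h1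
    rw [Subalgebra.coe_mul, Subalgebra.coe_algebraMap] at h2
    exact h2
  have hmem : ∀ a : T, ¬ IsUnit a → ∃ a', a = algebraMap R T ϖ * a' := by
    intro a ha
    by_cases ha0 : a = 0
    · exact ⟨0, by rw [ha0, mul_zero]⟩
    obtain ⟨n, u, hu⟩ := exists_unit_of_good hT a ha0
    rcases Nat.eq_zero_or_pos n with h0 | hpos
    · exfalso
      apply ha
      rw [hu, h0, pow_zero, one_mul]
      exact u.isUnit
    · refine ⟨algebraMap R T ϖ ^ (n - 1) * u, ?_⟩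
      rw [hu, ← mul_assoc, ← pow_succ', Nat.sub_add_cancel hpos]
  rw [irreducible_iff]
  refine ⟨hnu, fun a b hab => ?_⟩
  by_contra hcon
  push Not at hcon
  obtain ⟨a', ha'⟩ := hmem a hcon.1
  obtain ⟨b', hb'⟩ := hmem b hcon.2
  apply hnu
  have h1 : algebraMap R T ϖ * 1 = algebraMap R T ϖ * (algebraMap R T ϖ * (a' * b')) := by
    calc algebraMap R T ϖ * 1 = a * b := by rw [mul_one]; exact hab
      _ = algebraMap R T ϖ * (algebraMap R T ϖ * (a' * b')) := by rw [ha', hb']; ring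
  have h2 := mul_left_cancel₀ hne h1
  exact IsUnit.of_mul_eq_one _ h2.symm

theorem isDVR_of_good {p : ℕ} {ϖ : R} (hϖ0 : ϖ ≠ 0)
    (hinj : Function.Injective (algebraMap R Ω)) {T : Subalgebra R Ω} (hT : Good p ϖ T) :
    IsDiscreteValuationRing T := by
  apply IsDiscreteValuationRing.ofHasUnitMulPowIrreducibleFactorization
  refine ⟨algebraMap R T ϖ, irreducible_of_good hϖ0 hinj hT, fun {x} hx => ?_⟩
  obtain ⟨n, u, hu⟩ := exists_unit_of_good hT x hx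
  exact ⟨n, u, hu.symm⟩

/-- Adjoining the root `z` of `X ^ p - y` to a finite free subalgebra `S₀ ≤ T` containing `y`,
provided `1, z, …, z ^ (p - 1)` are linearly independent over `T`. -/
theorem exists_finite_free_adjoin {p : ℕ} (hp : p.Prime) {T : Subalgebra R Ω} {y z : Ω}
    (hz : z ^ p = y)
    (hLI : ∀ G : (↥T)[X], G.natDegree < p → G.eval₂ (T.val : T →+* Ω) z = 0 → G = 0)
    (S₀ : Subalgebra R Ω) (hS₀T : S₀ ≤ T) (hyS₀ : y ∈ S₀) [Module.Finite R S₀]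
    [Module.Free R S₀] :
    ∃ S' : Subalgebra R Ω, Module.Finite R S' ∧ Module.Free R S' ∧
      Module.finrank R S' = Module.finrank R S₀ * p ∧
      (∀ g' : (↥S₀)[X], g'.eval₂ (S₀.val : S₀ →+* Ω) z ∈ S') ∧
      (∀ x ∈ S', ∃ g' : (↥S₀)[X], g'.eval₂ (S₀.val : S₀ →+* Ω) z = x) := by
  obtain ⟨y₀, hy₀⟩ : ∃ y₀ : S₀, y₀ = ⟨y, hyS₀⟩ := ⟨_, rfl⟩
  obtain ⟨f₀, hf₀⟩ : ∃ f₀ : (↥S₀)[X], f₀ = X ^ p - C y₀ := ⟨_, rfl⟩
  have hmonic : f₀.Monic := by
    rw [hf₀]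
    exact monic_X_pow_sub_C y₀ hp.ne_zero
  have hdeg : f₀.natDegree = p := by
    rw [hf₀]
    exact natDegree_X_pow_sub_C
  have hzf : f₀.eval₂ (S₀.val : S₀ →+* Ω) z = 0 := by
    rw [hf₀, eval₂_sub, eval₂_pow, eval₂_X, eval₂_C, hz, hy₀]
    exact sub_self _
  obtain ⟨ψ, hψ⟩ : ∃ ψ : AdjoinRoot f₀ →ₐ[R] Ω, ψ = AdjoinRoot.liftAlgHom f₀ S₀.val z hzf :=
    ⟨_, rfl⟩
  have hψmk : ∀ g' : (↥S₀)[X],
      ψ (AdjoinRoot.mk f₀ g') = g'.eval₂ (S₀.val : S₀ →+* Ω) z := by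
    intro g'
    rw [hψ, AdjoinRoot.coe_liftAlgHom, AdjoinRoot.lift_mk]
    rfl
  obtain ⟨ι₀, hι₀⟩ : ∃ ι₀ : S₀ →+* T, ι₀ = (Subalgebra.inclusion hS₀T).toRingHom := ⟨_, rfl⟩
  have hι₀inj : Function.Injective ι₀ := by
    rw [hι₀]
    exact Subalgebra.inclusion_injective hS₀T
  have hcomp : (T.val : T →+* Ω).comp ι₀ = (S₀.val : S₀ →+* Ω) := by
    rw [hι₀]
    ext a
    rfl
  have hψinj : Function.Injective ψ := by
    rw [injective_iff_map_eq_zero]
    intro b₀ hb₀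
    obtain ⟨g, rfl⟩ := AdjoinRoot.mk_surjective b₀
    have hmod : AdjoinRoot.mk f₀ g = AdjoinRoot.mk f₀ (g %ₘ f₀) := by
      conv_lhs => rw [← Polynomial.modByMonic_add_div g f₀]
      rw [map_add, map_mul, AdjoinRoot.mk_self, zero_mul, add_zero]
    rw [hmod] at hb₀ ⊢
    have hlt : (g %ₘ f₀).natDegree < p := by
      have h1 : f₀ ≠ 1 := by
        intro h1
        have h2 := congrArg natDegree h1
        rw [hdeg, natDegree_one] at h2
        exact hp.ne_zero h2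
      have h3 := Polynomial.natDegree_modByMonic_lt g hmonic h1
      rw [hdeg] at h3
      exact h3
    rw [hψmk] at hb₀
    have h0 : (g %ₘ f₀).map ι₀ = 0 := by
      apply hLI
      · exact lt_of_le_of_lt natDegree_map_le hlt
      · rw [eval₂_map, hcomp]
        exact hb₀
    rw [(Polynomial.map_eq_zero_iff hι₀inj).mp h0, map_zero]
  haveI : Module.Finite S₀ (AdjoinRoot f₀) := hmonic.finite_adjoinRoot
  haveI : Module.Free S₀ (AdjoinRoot f₀) := hmonic.free_adjoinRoot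
  haveI : Module.Finite R (AdjoinRoot f₀) := Module.Finite.trans S₀ _
  haveI : Module.Free R (AdjoinRoot f₀) := Module.Free.trans (R := R) (S := S₀)
  have hrk : Module.finrank R (AdjoinRoot f₀) = Module.finrank R S₀ * p := by
    rw [← Module.finrank_mul_finrank R S₀ (AdjoinRoot f₀),
      (AdjoinRoot.powerBasis' hmonic).finrank, AdjoinRoot.powerBasis'_dim, hdeg]
  refine ⟨ψ.range, Module.Finite.equiv (AlgEquiv.ofInjective ψ hψinj).toLinearEquiv,
    Module.Free.of_equiv (AlgEquiv.ofInjective ψ hψinj).toLinearEquiv, ?_, ?_, ?_⟩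
  · rw [← (AlgEquiv.ofInjective ψ hψinj).toLinearEquiv.finrank_eq, hrk]
  · intro g'
    exact ⟨AdjoinRoot.mk f₀ g', hψmk g'⟩
  · rintro x ⟨b₀, rfl⟩
    obtain ⟨g', rfl⟩ := AdjoinRoot.mk_surjective b₀
    exact ⟨g', (hψmk g').symm⟩

end Groth.Agent.Lib.Helper6.HensPerf
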