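import Mathlib
import Groth.Agent.Lib.Helper6.HensPerf.HP2

/-!
# Extension step and Zorn's lemma for good subalgebras
-/

set_option linter.style.haveILetI false
set_option linter.unusedSectionVars false

namespace Groth.Agent.Lib.Helper6.HensPerf

open Polynomial IsLocalRing

universe u

variable {R : Type u} [CommRing R] [IsDomain R] [IsDiscreteValuationRing R]
  {Ω : Type u} [Field Ω] [Algebra R Ω]

theorem exists_good_extension {p : ℕ} (hp : p.Prime) {ϖ : R} (hϖ : Irreducible ϖ)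
    (hpϖ : ∃ t₀ : R, (p : R) = ϖ * t₀)
    (hinj : Function.Injective (algebraMap R Ω))
    {T : Subalgebra R Ω} (hT : Good p ϖ T) {y : Ω} (hy : y ∈ T) {z : Ω} (hz : z ^ p = y)
    (hyp : ∀ w ∈ T, ∀ t ∈ T, w ^ p - y ≠ algebraMap R Ω ϖ * t) :
    ∃ T' : Subalgebra R Ω, Good p ϖ T' ∧ T ≤ T' ∧ z ∈ T' := by
  haveI : IsDiscreteValuationRing T := isDVR_of_good hϖ.ne_zero hinj hT
  have hϖT : Irreducible (algebraMap R T ϖ) := irreducible_of_good hϖ.ne_zero hinj hT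
  obtain ⟨yA, hyA⟩ : ∃ yA : T, yA = ⟨y, hy⟩ := ⟨_, rfl⟩
  have hyA' : ∀ w : T, w ^ p - yA ∉ maximalIdeal T := by
    intro w hw
    rw [hϖT.maximalIdeal_eq, Ideal.mem_span_singleton'] at hw
    obtain ⟨t, ht⟩ := hw
    apply hyp w.1 w.2 t.1 t.2
    have h1 := congrArg Subtype.val ht
    rw [Subalgebra.coe_mul, Subalgebra.coe_sub, Subalgebra.coe_pow, Subalgebra.coe_algebraMap,
      hyA] at h1
    rw [← h1, mul_comm]
  obtain ⟨f, hf⟩ : ∃ f : (↥T)[X], f = X ^ p - C yA := ⟨_, rfl⟩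
  have hmonic : f.Monic := by
    rw [hf]
    exact monic_X_pow_sub_C yA hp.ne_zero
  have hirr : Irreducible (f.map (Ideal.Quotient.mk (maximalIdeal T))) := by
    rw [hf]
    exact irreducible_map_of_not_pow hp yA hyA'
  have hdeg : f.natDegree = p := by
    rw [hf]
    exact natDegree_X_pow_sub_C
  have hzf : f.eval₂ (T.val : T →+* Ω) z = 0 := by
    rw [hf, eval₂_sub, eval₂_pow, eval₂_X, eval₂_C, hz, hyA]
    exact sub_self _
  obtain ⟨φ, hφ⟩ : ∃ φ : AdjoinRoot f →ₐ[R] Ω, φ = AdjoinRoot.liftAlgHom f T.val z hzf :=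
    ⟨_, rfl⟩
  have hφmk : ∀ g : (↥T)[X], φ (AdjoinRoot.mk f g) = g.eval₂ (T.val : T →+* Ω) z := by
    intro g
    rw [hφ, AdjoinRoot.coe_liftAlgHom, AdjoinRoot.lift_mk]
    rfl
  have hφof : ∀ a : T, φ (AdjoinRoot.of f a) = a.1 := by
    intro a
    rw [← AdjoinRoot.mk_C, hφmk, eval₂_C]
    rfl
  have hφroot : φ (AdjoinRoot.root f) = z := by
    rw [← AdjoinRoot.mk_X, hφmk, eval₂_X]
  have hφϖ : φ (AdjoinRoot.of f (algebraMap R T ϖ)) = algebraMap R Ω ϖ := by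
    rw [hφof]
    rfl
  have hπ0 : algebraMap R Ω ϖ ≠ 0 := fun h => hϖ.ne_zero (hinj (by rw [h, map_zero]))
  have hφinj : Function.Injective φ := by
    rw [injective_iff_map_eq_zero]
    intro b hb
    by_contra hb0
    obtain ⟨n, u, hu⟩ := exists_eq_pow_mul_unit f hmonic hirr hϖT b hb0
    rw [hu, map_mul, map_pow, hφϖ] at hb
    have h1 : φ (u : AdjoinRoot f) ≠ 0 := (u.isUnit.map φ).ne_zero
    exact (mul_ne_zero (pow_ne_zero n hπ0) h1) hb
  have hLI : ∀ G : (↥T)[X], G.natDegree < p → G.eval₂ (T.val : T →+* Ω) z = 0 → G = 0 := by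
    intro G hG h0
    by_contra hG0
    have h1 : AdjoinRoot.mk f G = 0 := hφinj (by rw [hφmk, h0, map_zero])
    rw [AdjoinRoot.mk_eq_zero] at h1
    have h2 := natDegree_le_of_dvd h1 hG0
    omega
  refine ⟨φ.range, ⟨?_, ?_, ?_, ?_⟩, ?_, ?_⟩
  · -- fin
    intro s hs
    classical
    have hex : ∀ x ∈ s, ∃ g : (↥T)[X], g.eval₂ (T.val : T →+* Ω) z = x := by
      intro x hx
      obtain ⟨b, hb⟩ := (AlgHom.mem_range φ).mp (hs hx)
      obtain ⟨g, rfl⟩ := AdjoinRoot.mk_surjective b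
      exact ⟨g, by rw [← hφmk]; exact hb⟩
    choose! g hg using hex
    obtain ⟨C₀, hC₀⟩ : ∃ C₀ : Finset Ω,
        C₀ = insert y (s.biUnion fun x => (g x).coeffs.image Subtype.val) := ⟨_, rfl⟩
    have hC₀T : (↑C₀ : Set Ω) ⊆ (T : Set Ω) := by
      intro c hc
      rw [Finset.mem_coe, hC₀, Finset.mem_insert, Finset.mem_biUnion] at hc
      rcases hc with rfl | ⟨x, -, hx⟩
      · exact hy
      · obtain ⟨a, -, rfl⟩ := Finset.mem_image.mp hx
        exact a.2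
    obtain ⟨S₀, hS₀T, hCS₀, hfin, hfree, m, hrank⟩ := hT.fin C₀ hC₀T
    have hyS₀ : y ∈ S₀ := hCS₀ (by rw [Finset.mem_coe, hC₀]; exact Finset.mem_insert_self _ _)
    have hcoef : ∀ x ∈ s, ∀ n, (((g x).coeff n : T) : Ω) ∈ S₀ := by
      intro x hx n
      by_cases h0 : (g x).coeff n = 0
      · rw [h0]
        exact zero_mem _
      · apply hCS₀
        rw [Finset.mem_coe, hC₀]
        apply Finset.mem_insert_of_mem
        rw [Finset.mem_biUnion]
        exact ⟨x, hx, Finset.mem_image_of_mem _ (Polynomial.coeff_mem_coeffs h0)⟩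
    obtain ⟨S', hS'fin, hS'free, hS'rk, hS'mem, hS'rep⟩ :=
      exists_finite_free_adjoin hp hz hLI S₀ hS₀T hyS₀
    obtain ⟨ι₀, hι₀⟩ : ∃ ι₀ : S₀ →+* T, ι₀ = (Subalgebra.inclusion hS₀T).toRingHom := ⟨_, rfl⟩
    have hcomp : (T.val : T →+* Ω).comp ι₀ = (S₀.val : S₀ →+* Ω) := by
      rw [hι₀]
      ext a
      rfl
    refine ⟨S', ?_, ?_, hS'fin, hS'free, m + 1, ?_⟩
    · intro x hx
      obtain ⟨g', rfl⟩ := hS'rep x hx
      refine (AlgHom.mem_range φ).mpr ⟨AdjoinRoot.mk f (g'.map ι₀), ?_⟩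
      rw [hφmk, eval₂_map, hcomp]
    · intro x hx
      have hx' : x ∈ s := hx
      have hlift : g x ∈ Polynomial.lifts ι₀ := by
        rw [Polynomial.lifts_iff_coeff_lifts]
        intro n
        refine ⟨⟨_, hcoef x hx' n⟩, ?_⟩
        rw [hι₀]
        exact Subtype.ext rfl
      obtain ⟨g', hg'⟩ := (Polynomial.mem_lifts _).mp hlift
      have h1 := hS'mem g'
      rw [← hcomp, ← eval₂_map, hg', hg x hx'] at h1
      exact h1
    · rw [hS'rk, hrank, pow_succ]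
  · -- val
    intro x hx hx0
    obtain ⟨b, rfl⟩ := (AlgHom.mem_range φ).mp hx
    have hb0 : b ≠ 0 := fun h => hx0 (by rw [h, map_zero])
    obtain ⟨n, u, hu⟩ := exists_eq_pow_mul_unit f hmonic hirr hϖT b hb0
    refine ⟨n, φ u, φ (↑u⁻¹ : AdjoinRoot f), φ.mem_range_self _, φ.mem_range_self _, ?_, ?_⟩
    · rw [← map_mul, Units.mul_inv, map_one]
    · rw [hu, map_mul, map_pow, hφϖ]
  · -- res
    intro x hx
    obtain ⟨b, rfl⟩ := (AlgHom.mem_range φ).mp hx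
    obtain ⟨a, r, hbr⟩ := exists_pow_eq_of_add hp yA f hf b
    obtain ⟨m, z₀, t, ht, hres⟩ := hT.res a.1 a.2
    obtain ⟨t₀, ht₀⟩ := hpϖ
    have hpB : (p : AdjoinRoot f) =
        AdjoinRoot.of f (algebraMap R T ϖ) * AdjoinRoot.of f (algebraMap R T t₀) := by
      rw [← map_mul, ← map_mul, ← ht₀, map_natCast, map_natCast]
    obtain ⟨c, hc⟩ : ∃ c : AdjoinRoot f, c = AdjoinRoot.of f (algebraMap R T t₀) * r :=
      ⟨_, rfl⟩
    have hbp : b ^ p = AdjoinRoot.of f a + AdjoinRoot.of f (algebraMap R T ϖ) * c := by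
      rw [hbr, hpB, hc, mul_assoc]
    obtain ⟨q, hq⟩ := sub_dvd_pow_sub_pow
      (AdjoinRoot.of f a + AdjoinRoot.of f (algebraMap R T ϖ) * c) (AdjoinRoot.of f a) (p ^ m)
    have e1 : (AdjoinRoot.of f a + AdjoinRoot.of f (algebraMap R T ϖ) * c) ^ (p ^ m) =
        AdjoinRoot.of f a ^ (p ^ m) + AdjoinRoot.of f (algebraMap R T ϖ) * c * q := by
      linear_combination hq
    have hA : algebraMap R T z₀ - a ^ (p ^ m) = algebraMap R T ϖ * ⟨t, ht⟩ := by
      apply Subtype.ext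
      rw [Subalgebra.coe_sub, Subalgebra.coe_pow, Subalgebra.coe_mul, Subalgebra.coe_algebraMap,
        Subalgebra.coe_algebraMap]
      exact hres
    have e2 : AdjoinRoot.of f (algebraMap R T z₀) - AdjoinRoot.of f a ^ (p ^ m) =
        AdjoinRoot.of f (algebraMap R T ϖ) * AdjoinRoot.of f ⟨t, ht⟩ := by
      rw [← map_pow, ← map_sub, hA, map_mul]
    have e3 : AdjoinRoot.of f (algebraMap R T z₀) - b ^ (p ^ (m + 1)) =
        AdjoinRoot.of f (algebraMap R T ϖ) * (AdjoinRoot.of f ⟨t, ht⟩ - c * q) := by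
      rw [pow_succ', pow_mul, hbp, e1]
      linear_combination e2
    have e4 := congrArg φ e3
    rw [map_sub, map_pow, map_mul, hφof, hφϖ, Subalgebra.coe_algebraMap] at e4
    exact ⟨m + 1, z₀, _, φ.mem_range_self _, e4⟩
  · -- nonunit
    intro v hv h
    obtain ⟨b, rfl⟩ := (AlgHom.mem_range φ).mp hv
    haveI : IsLocalRing (AdjoinRoot f) := isLocalRing_adjoinRoot f hmonic hirr
    have h1 : AdjoinRoot.of f (algebraMap R T ϖ) * b = 1 :=
      hφinj (by rw [map_mul, hφϖ, map_one]; exact h)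
    have h2 : AdjoinRoot.of f (algebraMap R T ϖ) ∈ maximalIdeal (AdjoinRoot f) := by
      rw [maximalIdeal_adjoinRoot f hirr]
      apply Ideal.mem_map_of_mem
      rw [hϖT.maximalIdeal_eq]
      exact Ideal.mem_span_singleton_self _
    exact (IsLocalRing.mem_maximalIdeal _).mp h2 (IsUnit.of_mul_eq_one _ h1)
  · -- T ≤ T'
    intro a ha
    exact (AlgHom.mem_range φ).mpr ⟨AdjoinRoot.of f ⟨a, ha⟩, hφof _⟩
  · exact (AlgHom.mem_range φ).mpr ⟨AdjoinRoot.root f, hφroot⟩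

theorem exists_perfect_good {p : ℕ} (hp : p.Prime) {ϖ : R} (hϖ : Irreducible ϖ)
    (hpϖ : ∃ t₀ : R, (p : R) = ϖ * t₀) [IsAlgClosed Ω]
    (hinj : Function.Injective (algebraMap R Ω)) :
    ∃ T : Subalgebra R Ω, Good p ϖ T ∧
      ∀ y ∈ T, ∃ w ∈ T, ∃ t ∈ T, w ^ p - y = algebraMap R Ω ϖ * t := by
  obtain ⟨T, -, hTmax⟩ := zorn_le_nonempty₀ {T : Subalgebra R Ω | Good p ϖ T}
    (fun c hc hchain T₀ hT₀ =>
      ⟨sSup c, good_sSup (fun T hT => hc hT) hchain hT₀, fun T hT => le_sSup hT⟩)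
    ⊥ (good_bot p hϖ hinj)
  refine ⟨T, hTmax.prop, fun y hy => ?_⟩
  by_contra hcon
  push Not at hcon
  obtain ⟨z, hz⟩ := IsAlgClosed.exists_pow_nat_eq y hp.pos
  obtain ⟨T', hT', hle, hzT'⟩ := exists_good_extension hp hϖ hpϖ hinj hTmax.prop hy hz hcon
  have hzT : z ∈ T := hTmax.le_of_ge hT' hle hzT'
  exact hcon z hzT 0 (zero_mem _) (by rw [hz, sub_self, mul_zero])

end Groth.Agent.Lib.Helper6.HensPerf
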